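import Cfsg.Agent.H954.LD.Row
import Cfsg.Agent.H492.FactsTh
import Cfsg.Agent.S2083
import Cfsg.Agent.H55.OutGen

/-!
# S4910, the row `Th` (helper168): degrees `30875 = 5³·13·19` and `4881384 = 2³·3⁹·31`
-/

set_option autoImplicit false

namespace Cfsg.Agent.H168.LD

open Cfsg Cfsg.Agent.H954.LD Cfsg.Agent.Characters.Core

universe u

/-- transport of a degree along an isomorphism -/
theorem exists_deg {S : Type u} [Group S] {T : Type} [Group T] (e : S ≃* T) {d : ℕ}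
    (h : ∃ χ : IrrCharacter T, (χ : T → ℂ) 1 = (d : ℕ)) : ∃ χ : IrrCharacter S, charDegree (χ : S → ℂ) = d := by
  obtain ⟨χ, hχ⟩ := h
  refine ⟨⟨(χ : T → ℂ) ∘ e.toMonoidHom, isIrr_comp e.toMonoidHom e.surjective χ.2⟩, ?_⟩
  apply Cfsg.Agent.H670.PSing.charDegree_eq_of
  show (χ : T → ℂ) (e 1) = _
  rw [map_one, hχ]

theorem row_Th {S : Type u} [Group S] [Finite S] [IsSimpleGroup S] (hna : ¬ IsMulCommutative S) (h : Spor.IsoTh S) :
    CopRow S := by
  obtain ⟨e⟩ := h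
  have h1 : Nat.card (Out S) = 1 := by rw [H55.OutGen.card_out_congr e]; exact S2083.result
  obtain ⟨α, hα⟩ := exists_deg e Cfsg.Agent.H492.FactsTh.exists_30875
  obtain ⟨β, hβ⟩ := exists_deg e Cfsg.Agent.H492.FactsTh.exists_4881384
  exact copRow_one hna h1 (α := α) (β := β) (by rw [hα]; norm_num) (by rw [hβ]; norm_num)
    (by rw [hα, hβ]; norm_num)

end Cfsg.Agent.H168.LD
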